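import Mathlib

/-!
# The local `ℤ/p`-action `t ↦ t (1 + tⁿ)^(-1/n)` on power series
-/

set_option autoImplicit false
set_option linter.unusedSectionVars false
universe u

open PowerSeries

noncomputable section

namespace Groth.Agent.ASLocal

variable {k : Type u} [Field k]

/-- The local datum of an Artin–Schreier cover at a ramified point. -/
structure Datum (p n : ℕ) (u : PowerSeries k) : Prop where
  npos : 0 < n
  ndvd : ¬ p ∣ n
  const : constantCoeff u = 1
  eqn : u ^ n * (1 + X ^ n) = 1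

variable {p n : ℕ} {u : PowerSeries k}

namespace Datum

variable (d : Datum p n u)
include d

theorem isUnit : IsUnit u := isUnit_iff_constantCoeff.mpr (d.const ▸ isUnit_one)

theorem hasSubst : HasSubst (X * u : PowerSeries k) :=
  HasSubst.of_constantCoeff_zero' (by simp)

/-- The unit `u`. -/
def U : (PowerSeries k)ˣ := d.isUnit.unit

theorem coe_U : (d.U : PowerSeries k) = u := d.isUnit.unit_spec

/-- The substitution `h ↦ h (X u)`. -/
def sg : PowerSeries k →ₐ[k] PowerSeries k := substAlgHom d.hasSubst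

theorem sg_apply (h : PowerSeries k) : d.sg h = subst (X * u) h := by
  rw [sg, coe_substAlgHom]

theorem sg_X : d.sg X = X * u := by rw [sg_apply, subst_X d.hasSubst]

/-- The twisted action `h ↦ u^a h(X u)`. -/
def T (a : ℤ) : Module.End k (PowerSeries k) :=
  (LinearMap.mulLeft k ((d.U ^ a : (PowerSeries k)ˣ) : PowerSeries k)).comp d.sg.toLinearMap

theorem T_apply (a : ℤ) (h : PowerSeries k) :
    d.T a h = ((d.U ^ a : (PowerSeries k)ˣ) : PowerSeries k) * d.sg h := rfl

/-- The difference operator. -/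
def D (a : ℤ) : Module.End k (PowerSeries k) := d.T a - 1

theorem D_apply (a : ℤ) (h : PowerSeries k) :
    d.D a h = ((d.U ^ a : (PowerSeries k)ˣ) : PowerSeries k) * d.sg h - h := rfl

theorem T_X_pow_mul (a : ℤ) (q : ℕ) (h : PowerSeries k) :
    d.T a (X ^ q * h) = X ^ q * d.T (a + q) h := by
  rw [T_apply, T_apply, map_mul, map_pow, sg_X, mul_pow, zpow_add, zpow_natCast, Units.val_mul,
    Units.val_pow_eq_pow_val, coe_U]
  ring

theorem D_X_pow_mul (a : ℤ) (q : ℕ) (h : PowerSeries k) :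
    d.D a (X ^ q * h) = X ^ q * d.D (a + q) h := by
  simp only [D, LinearMap.sub_apply, Module.End.one_apply, T_X_pow_mul, mul_sub]

end Datum

/-- A power series is the sum of its first `R` terms and a multiple of `X ^ R`. -/
theorem exists_split (h : PowerSeries k) (R : ℕ) :
    ∃ h' : PowerSeries k, h = (∑ q ∈ Finset.range R, coeff q h • X ^ q) + X ^ R * h' := by
  have : X ^ R ∣ h - ∑ q ∈ Finset.range R, coeff q h • (X : PowerSeries k) ^ q := by
    rw [X_pow_dvd_iff]
    intro m hm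
    simp [coeff_X_pow, Finset.sum_ite_eq, hm]
  obtain ⟨h', e⟩ := this
  exact ⟨h', by rw [← e, add_sub_cancel]⟩

theorem coeff_X_pow_mul_of_lt {R N : ℕ} (hN : N < R) (h : PowerSeries k) :
    coeff N (X ^ R * h) = 0 :=
  X_pow_dvd_iff.mp (dvd_mul_right _ _) N hN

namespace Datum

variable [CharP k p] [Fact p.Prime] (d : Datum p n u)
include d

theorem n_ne_zero : (n : k) ≠ 0 := fun h => d.ndvd ((CharP.cast_eq_zero_iff k p n).mp h)

/-- The first nontrivial coefficient of `u`. -/
def gam (_d : Datum p n u) : k := -(n : k)⁻¹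

theorem gam_ne_zero : d.gam ≠ 0 := neg_ne_zero.mpr (inv_ne_zero d.n_ne_zero)

theorem u_congr : X ^ (2 * n) ∣ u - (1 + C d.gam * X ^ n) := by
  set w : PowerSeries k := 1 + C d.gam * X ^ n with hw
  have hw0 : constantCoeff w = 1 := by simp [hw, zero_pow d.npos.ne']
  have e1 : X ^ (2 * n) ∣ w ^ n - (1 + C ((n : k) * d.gam) * X ^ n) := by
    have key : ∀ j : ℕ, X ^ (2 * n) ∣ w ^ j - (1 + C ((j : k) * d.gam) * X ^ n) := by
      intro j
      induction j with
      | zero => simp
      | succ j ih =>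
        have e : w ^ (j + 1) - (1 + C (((j + 1 : ℕ) : k) * d.gam) * X ^ n) =
            w * (w ^ j - (1 + C ((j : k) * d.gam) * X ^ n)) +
              X ^ (2 * n) * (C d.gam * C ((j : k) * d.gam)) := by
          have hC : C (((j + 1 : ℕ) : k) * d.gam) = C ((j : k) * d.gam) + C d.gam := by
            rw [← map_add]; congr 1; push_cast; ring
          rw [pow_succ', hC, hw]
          ring
        rw [e]
        exact dvd_add (dvd_mul_of_dvd_right ih _) (dvd_mul_right _ _)
    exact key n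
  have hng : (n : k) * d.gam = -1 := by
    rw [gam, mul_neg, mul_inv_cancel₀ d.n_ne_zero]
  rw [hng, map_neg, map_one] at e1
  have e2 : X ^ (2 * n) ∣ w ^ n - u ^ n := by
    have h1 : (w ^ n - u ^ n) * (1 + X ^ n) =
        (w ^ n - (1 + -1 * X ^ n)) * (1 + X ^ n) - X ^ (2 * n) := by
      rw [sub_mul (w ^ n), d.eqn]
      ring
    have h2 : IsUnit (1 + X ^ n : PowerSeries k) := IsUnit.of_mul_eq_one_right _ d.eqn
    exact h2.dvd_mul_right.mp (h1 ▸ dvd_sub (dvd_mul_of_dvd_left e1 _) dvd_rfl)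
  have hS : IsUnit (∑ i ∈ Finset.range n, u ^ i * w ^ (n - 1 - i)) := by
    rw [isUnit_iff_constantCoeff, map_sum]
    simp only [map_mul, map_pow, d.const, hw0, one_pow, mul_one, Finset.sum_const,
      Finset.card_range, nsmul_eq_mul]
    exact isUnit_iff_ne_zero.mpr d.n_ne_zero
  rw [← hS.dvd_mul_left, geom_sum₂_mul]
  rw [← neg_sub]
  exact dvd_neg.mpr e2

/-- The expansion of the integer powers of `u` up to order `2n`. -/
theorem U_zpow_congr (a : ℤ) :
    X ^ (2 * n) ∣ ((d.U ^ a : (PowerSeries k)ˣ) : PowerSeries k) - (1 + C ((a : k) * d.gam) * X ^ n) := by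
  have hU : X ^ (2 * n) ∣ (d.U : PowerSeries k) - (1 + C d.gam * X ^ n) := by
    rw [coe_U]; exact d.u_congr
  induction a using Int.induction_on with
  | zero => simp
  | succ j ih =>
    have hC : C ((((j : ℤ) + 1 : ℤ) : k) * d.gam) = C (((j : ℤ) : k) * d.gam) + C d.gam := by
      rw [← map_add]; congr 1; push_cast; ring
    rw [hC, zpow_add_one, Units.val_mul]
    generalize ((d.U ^ (j : ℤ) : (PowerSeries k)ˣ) : PowerSeries k) = V at ih ⊢
    generalize C (((j : ℤ) : k) * d.gam) = c at ih ⊢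
    have e : V * (d.U : PowerSeries k) - (1 + (c + C d.gam) * X ^ n) =
        (V - (1 + c * X ^ n)) * (d.U : PowerSeries k) +
          (1 + c * X ^ n) * ((d.U : PowerSeries k) - (1 + C d.gam * X ^ n)) +
          X ^ (2 * n) * (c * C d.gam) := by
      ring
    rw [e]
    exact dvd_add (dvd_add (dvd_mul_of_dvd_left ih _) (dvd_mul_of_dvd_right hU _))
      (dvd_mul_right _ _)
  | pred j ih =>
    have hC : C (((-(j : ℤ) : ℤ) : k) * d.gam) = C (((-(j : ℤ) - 1 : ℤ) : k) * d.gam) + C d.gam := by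
      rw [← map_add]; congr 1; push_cast; ring
    have hV : ((d.U ^ (-(j : ℤ)) : (PowerSeries k)ˣ) : PowerSeries k) =
        ((d.U ^ (-(j : ℤ) - 1) : (PowerSeries k)ˣ) : PowerSeries k) * (d.U : PowerSeries k) := by
      rw [← Units.val_mul, zpow_sub_one, inv_mul_cancel_right]
    rw [hC, hV] at ih
    generalize ((d.U ^ (-(j : ℤ) - 1) : (PowerSeries k)ˣ) : PowerSeries k) = V at ih ⊢
    generalize C (((-(j : ℤ) - 1 : ℤ) : k) * d.gam) = c at ih ⊢
    have e : (V - (1 + c * X ^ n)) * (d.U : PowerSeries k) =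
        (V * (d.U : PowerSeries k) - (1 + (c + C d.gam) * X ^ n)) -
          (1 + c * X ^ n) * ((d.U : PowerSeries k) - (1 + C d.gam * X ^ n)) -
          X ^ (2 * n) * (c * C d.gam) := by
      ring
    rw [← d.U.isUnit.dvd_mul_right, e]
    exact dvd_sub (dvd_sub ih (dvd_mul_of_dvd_right hU _)) (dvd_mul_right _ _)

theorem coeff_U_zpow_sub_one (a : ℤ) {N : ℕ} (hN : N < 2 * n) :
    coeff N (((d.U ^ a : (PowerSeries k)ˣ) : PowerSeries k) - 1) =
      if N = n then (a : k) * d.gam else 0 := by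
  have h := X_pow_dvd_iff.mp (d.U_zpow_congr a) N hN
  rw [map_sub, sub_eq_zero] at h
  rw [map_sub, h, map_add, add_sub_cancel_left, coeff_C_mul, coeff_X_pow]
  split_ifs <;> simp

theorem X_pow_dvd_U_zpow_sub_one (a : ℤ) :
    X ^ n ∣ ((d.U ^ a : (PowerSeries k)ˣ) : PowerSeries k) - 1 :=
  X_pow_dvd_iff.mpr fun N hN => by
    rw [d.coeff_U_zpow_sub_one a (by omega), if_neg hN.ne]

/-- The matrix of `D a`. -/
def kap (a : ℤ) (N r : ℕ) : k :=
  if r ≤ N then coeff (N - r) (((d.U ^ (a + r) : (PowerSeries k)ˣ) : PowerSeries k) - 1) else 0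

theorem coeff_D (a : ℤ) (h : PowerSeries k) (N : ℕ) :
    coeff N (d.D a h) = ∑ r ∈ Finset.range (N + 1), coeff r h * d.kap a N r := by
  obtain ⟨h', e⟩ := exists_split h (N + 1)
  conv_lhs => rw [e, map_add, D_X_pow_mul, map_add, coeff_X_pow_mul_of_lt (Nat.lt_succ_self N),
    add_zero, map_sum, map_sum]
  refine Finset.sum_congr rfl fun r hr => ?_
  rw [Finset.mem_range] at hr
  rw [map_smul, ← mul_one (X ^ r : PowerSeries k), D_X_pow_mul, D_apply, map_one, mul_one,
    coeff_smul, coeff_X_pow_mul', kap, if_pos (by omega), smul_eq_mul]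

theorem kap_eq (a : ℤ) {N r : ℕ} (hN : N < r + 2 * n) :
    d.kap a N r = if N = r + n then ((a + r : ℤ) : k) * d.gam else 0 := by
  unfold kap
  split_ifs with h1 h2 h2
  · rw [d.coeff_U_zpow_sub_one _ (by omega), if_pos (by omega)]
  · rw [d.coeff_U_zpow_sub_one _ (by omega), if_neg (by omega)]
  · omega
  · rfl

/-- The image of `D a` is divisible by `X ^ n`, with the expected leading coefficient. -/
theorem coeff_D_lead (a : ℤ) (h : PowerSeries k) (s : ℕ) (hs : ∀ r < s, coeff r h = 0) :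
    (∀ N < s + n, coeff N (d.D a h) = 0) ∧
      coeff (s + n) (d.D a h) = ((a + s : ℤ) : k) * d.gam * coeff s h := by
  have hn := d.npos
  constructor
  · intro N hN
    rw [d.coeff_D]
    refine Finset.sum_eq_zero fun r _ => ?_
    by_cases hr : r < s
    · rw [hs r hr, zero_mul]
    · rw [d.kap_eq a (by omega), if_neg (by omega), mul_zero]
  · rw [d.coeff_D, Finset.sum_eq_single s]
    · rw [d.kap_eq a (by omega), if_pos rfl, mul_comm]
    · intro r _ hne
      by_cases hr : r < s
      · rw [hs r hr, zero_mul]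
      · rw [d.kap_eq a (by omega), if_neg (by omega), mul_zero]
    · intro h
      exact absurd (Finset.mem_range.mpr (by omega)) h

theorem coeff_D_of_lt (a : ℤ) (h : PowerSeries k) {N : ℕ} (hN : N < n) :
    coeff N (d.D a h) = 0 :=
  (d.coeff_D_lead a h 0 (fun r hr => absurd hr (by omega))).1 N (by omega)

theorem coeff_D_pow_lead (a : ℤ) (h : PowerSeries k) (s : ℕ) (hs : ∀ r < s, coeff r h = 0) (j : ℕ) :
    (∀ N < s + j * n, coeff N ((d.D a ^ j) h) = 0) ∧
      coeff (s + j * n) ((d.D a ^ j) h) =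
        (∏ l ∈ Finset.range j, ((a + s + l * n : ℤ) : k) * d.gam) * coeff s h := by
  induction j with
  | zero => simpa using hs
  | succ j ih =>
    obtain ⟨h1, h2⟩ := d.coeff_D_lead a ((d.D a ^ j) h) (s + j * n) ih.1
    refine ⟨fun N hN => ?_, ?_⟩
    · rw [pow_succ', Module.End.mul_apply]
      exact h1 N (by rw [add_mul, one_mul] at hN; omega)
    · rw [pow_succ', Module.End.mul_apply, show s + (j + 1) * n = s + j * n + n by ring, h2, ih.2,
        Finset.prod_range_succ]
      push_cast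
      ring

/-- The units describing the iterates of the substitution. -/
def Ul : ℕ → (PowerSeries k)ˣ
  | 0 => 1
  | l + 1 => d.U * Units.map (d.sg : PowerSeries k →* PowerSeries k) (Ul l)

theorem Ul_pow (l : ℕ) : ((d.Ul l : (PowerSeries k)ˣ) : PowerSeries k) ^ n * (1 + (l : PowerSeries k) * X ^ n) = 1 ∧
    constantCoeff ((d.Ul l : (PowerSeries k)ˣ) : PowerSeries k) = 1 := by
  induction l with
  | zero => simp [Ul]
  | succ l ih =>
    have hv : ((d.Ul (l + 1) : (PowerSeries k)ˣ) : PowerSeries k) =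
        u * d.sg ((d.Ul l : (PowerSeries k)ˣ) : PowerSeries k) := by
      simp [Ul, coe_U]
    constructor
    · rw [hv]
      have h1 := congrArg d.sg ih.1
      simp only [map_mul, map_pow, map_add, map_one, map_natCast, d.sg_X] at h1
      generalize d.sg ((d.Ul l : (PowerSeries k)ˣ) : PowerSeries k) = v at h1 ⊢
      push_cast
      linear_combination h1 + v ^ n * d.eqn
    · rw [hv, map_mul, d.const, one_mul]
      have h0 := ih.2
      obtain ⟨v', e⟩ := exists_split ((d.Ul l : (PowerSeries k)ˣ) : PowerSeries k) 1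
      rw [e, map_add, map_mul, map_pow, d.sg_X]
      simp [h0]

theorem eq_of_pow_eq {v w : PowerSeries k} (hv : constantCoeff v = 1) (hw : constantCoeff w = 1)
    (h : v ^ n = w ^ n) : v = w := by
  have hS : IsUnit (∑ i ∈ Finset.range n, v ^ i * w ^ (n - 1 - i)) := by
    rw [isUnit_iff_constantCoeff, map_sum]
    simp only [map_mul, map_pow, hv, hw, one_pow, mul_one, Finset.sum_const, Finset.card_range,
      nsmul_eq_mul]
    exact isUnit_iff_ne_zero.mpr d.n_ne_zero
  have := geom_sum₂_mul v w n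
  rw [h, sub_self] at this
  exact sub_eq_zero.mp (hS.mul_right_eq_zero.mp this)

theorem Ul_p : d.Ul p = 1 := by
  refine Units.ext (d.eq_of_pow_eq (d.Ul_pow p).2 (by simp) ?_)
  have h := (d.Ul_pow p).1
  have : ((p : ℕ) : PowerSeries k) = 0 := by
    rw [← map_natCast (C : k →+* PowerSeries k), CharP.cast_eq_zero, map_zero]
  simpa [this] using h

theorem T_pow_one (a : ℤ) (l : ℕ) :
    (d.T a ^ l) 1 = ((d.Ul l ^ a : (PowerSeries k)ˣ) : PowerSeries k) := by
  induction l with
  | zero => simp [Ul]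
  | succ l ih =>
    rw [pow_succ', Module.End.mul_apply, ih, T_apply, Ul, mul_zpow, Units.val_mul, ← map_zpow]
    rfl

theorem T_pow_X_pow_mul (a : ℤ) (q l : ℕ) (h : PowerSeries k) :
    (d.T a ^ l) (X ^ q * h) = X ^ q * (d.T (a + q) ^ l) h := by
  induction l with
  | zero => simp
  | succ l ih => rw [pow_succ', Module.End.mul_apply, ih, T_X_pow_mul, pow_succ', Module.End.mul_apply]

theorem T_pow_p (a : ℤ) : d.T a ^ p = 1 := by
  refine LinearMap.ext fun h => PowerSeries.ext fun N => ?_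
  obtain ⟨h', e⟩ := exists_split h (N + 1)
  rw [Module.End.one_apply, e, map_add, map_add, map_add, T_pow_X_pow_mul,
    coeff_X_pow_mul_of_lt (Nat.lt_succ_self N), coeff_X_pow_mul_of_lt (Nat.lt_succ_self N),
    add_zero, add_zero, map_sum]
  refine congrArg _ (Finset.sum_congr rfl fun r _ => ?_)
  rw [map_smul, ← mul_one (X ^ r : PowerSeries k), T_pow_X_pow_mul, T_pow_one, Ul_p, one_zpow,
    Units.val_one]

/-- The norm is the `(p - 1)`-st power of the difference operator. -/
theorem sum_T_pow (a : ℤ) : ∑ l ∈ Finset.range p, d.T a ^ l = d.D a ^ (p - 1) := by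
  have hp : p.Prime := Fact.out
  have h : (∑ l ∈ Finset.range p, (Polynomial.X : Polynomial k) ^ l) =
      (Polynomial.X - 1) ^ (p - 1) := by
    refine mul_right_cancel₀ (Polynomial.X_sub_C_ne_zero (1 : k)) ?_
    rw [map_one, geom_sum_mul, ← pow_succ, Nat.sub_add_cancel hp.one_lt.le, sub_pow_char, one_pow]
  simpa [D, map_sum] using congrArg (Polynomial.aeval (d.T a)) h

theorem D_pow_p (a : ℤ) : d.D a ^ p = 0 := by
  have h : ((Polynomial.X : Polynomial k) - 1) ^ p = Polynomial.X ^ p - 1 := by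
    rw [sub_pow_char, one_pow]
  simpa [D, d.T_pow_p] using congrArg (Polynomial.aeval (d.T a)) h

/-- The cocycle values `X^(-m) (u^(a-m) - 1)`. -/
def cc (a : ℤ) (m : ℕ) : PowerSeries k :=
  PowerSeries.mk fun j =>
    coeff (j + m) (((d.U ^ (a - m) : (PowerSeries k)ˣ) : PowerSeries k) - 1)

theorem X_pow_mul_cc (a : ℤ) {m : ℕ} (hm : m ≤ n) :
    X ^ m * d.cc a m = ((d.U ^ (a - m) : (PowerSeries k)ˣ) : PowerSeries k) - 1 := by
  ext N
  rw [coeff_X_pow_mul']
  split_ifs with h
  · rw [cc, coeff_mk, Nat.sub_add_cancel h]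
  · exact (X_pow_dvd_iff.mp (d.X_pow_dvd_U_zpow_sub_one _) N (by omega)).symm

theorem eq_cc (a : ℤ) {m : ℕ} (hm : m ≤ n) {c : PowerSeries k}
    (hc : X ^ m * c = ((d.U ^ (a - m) : (PowerSeries k)ˣ) : PowerSeries k) - 1) : c = d.cc a m :=
  mul_left_cancel₀ (pow_ne_zero m X_ne_zero) (hc.trans (d.X_pow_mul_cc a hm).symm)

theorem coeff_cc (a : ℤ) {m N : ℕ} (hm1 : 1 ≤ m) (hm : m ≤ n) (hN : N < n) :
    coeff N (d.cc a m) = if N + m = n then ((a - m : ℤ) : k) * d.gam else 0 := by
  rw [cc, coeff_mk, d.coeff_U_zpow_sub_one _ (by omega)]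

theorem norm_cc (a : ℤ) {m : ℕ} (hm : m ≤ n) : (d.D a ^ (p - 1)) (d.cc a m) = 0 := by
  have hp : p.Prime := Fact.out
  have key : ∀ (j : ℕ) (h : PowerSeries k),
      (d.D (a - m) ^ j) (X ^ m * h) = X ^ m * (d.D a ^ j) h := by
    intro j
    induction j with
    | zero => simp
    | succ j ih =>
      intro h
      rw [pow_succ', Module.End.mul_apply, ih, D_X_pow_mul, pow_succ', Module.End.mul_apply,
        sub_add_cancel]
  refine mul_left_cancel₀ (pow_ne_zero m X_ne_zero) ?_
  rw [← key, X_pow_mul_cc d a hm, mul_zero]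
  have : ((d.U ^ (a - m) : (PowerSeries k)ˣ) : PowerSeries k) - 1 = d.D (a - m) 1 := by
    rw [D_apply, map_one, mul_one]
  rw [this, ← Module.End.mul_apply, ← pow_succ, Nat.sub_add_cancel hp.one_lt.le, D_pow_p,
    LinearMap.zero_apply]

/-- An invariant power series congruent to one. -/
theorem exists_invariant :
    ∃ v : (PowerSeries k)ˣ, X ^ n ∣ (v : PowerSeries k) - 1 ∧
      d.U ^ (p : ℤ) * Units.map (d.sg : PowerSeries k →* PowerSeries k) v = v := by
  -- `X ^ p * v` is the norm of `X`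
  have hp : p.Prime := Fact.out
  let v : (PowerSeries k)ˣ := ∏ l ∈ Finset.range p, d.Ul l
  have hUl : ∀ l, X ^ n ∣ ((d.Ul l : (PowerSeries k)ˣ) : PowerSeries k) - 1 := by
    intro l
    induction l with
    | zero => simp [Ul]
    | succ l ih =>
      have h1 := d.X_pow_dvd_U_zpow_sub_one 1
      rw [zpow_one] at h1
      have h2 : X ^ n ∣ d.sg (((d.Ul l : (PowerSeries k)ˣ) : PowerSeries k) - 1) := by
        obtain ⟨w, hw⟩ := ih
        rw [hw, map_mul, map_pow, sg_X, mul_pow, mul_assoc]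
        exact dvd_mul_right _ _
      rw [map_sub, map_one] at h2
      have e : ((d.Ul (l + 1) : (PowerSeries k)ˣ) : PowerSeries k) - 1 =
          (d.U : PowerSeries k) * (d.sg ((d.Ul l : (PowerSeries k)ˣ) : PowerSeries k) - 1) +
            ((d.U : PowerSeries k) - 1) := by
        simp [Ul]
        ring
      rw [e]
      exact dvd_add (dvd_mul_of_dvd_right h2 _) h1
  refine ⟨v, ?_, ?_⟩
  · have key : ∀ j, X ^ n ∣ ((∏ l ∈ Finset.range j, d.Ul l : (PowerSeries k)ˣ) : PowerSeries k) - 1 := by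
      intro j
      induction j with
      | zero => simp
      | succ j ih =>
        rw [Finset.prod_range_succ, Units.val_mul,
          show ∀ x y : PowerSeries k, x * y - 1 = (x - 1) * y + (y - 1) from fun x y => by ring]
        exact dvd_add (dvd_mul_of_dvd_left ih _) (hUl j)
    exact key p
  · show d.U ^ (p : ℤ) * Units.map _ v = v
    rw [map_prod, zpow_natCast]
    calc d.U ^ p * ∏ l ∈ Finset.range p, Units.map (d.sg : PowerSeries k →* PowerSeries k) (d.Ul l)
        = ∏ l ∈ Finset.range p, d.Ul (l + 1) := by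
          simp only [Ul, Finset.prod_mul_distrib, Finset.prod_const, Finset.card_range]
      _ = (∏ l ∈ Finset.range p, d.Ul (l + 1)) * d.Ul 0 := by simp [Ul]
      _ = ∏ l ∈ Finset.range (p + 1), d.Ul l := (Finset.prod_range_succ' _ _).symm
      _ = v := by rw [Finset.prod_range_succ, Ul_p, mul_one]

/-- When `p ∣ a - m` the class `cc a m` is a coboundary. -/
theorem exists_D_eq_cc (a : ℤ) {m : ℕ} (hm : m ≤ n) (hdvd : (p : ℤ) ∣ a - m) :
    ∃ h, d.D a h = d.cc a m := by
  obtain ⟨v, hv, hinv⟩ := d.exists_invariant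
  obtain ⟨j, hj⟩ := hdvd
  have hinv' : d.U ^ (a - m) * Units.map (d.sg : PowerSeries k →* PowerSeries k) (v ^ j) = v ^ j := by
    rw [map_zpow, hj, zpow_mul, ← mul_zpow, hinv]
  have hdiv : X ^ m ∣ 1 - ((v ^ j : (PowerSeries k)ˣ) : PowerSeries k) := by
    refine (pow_dvd_pow X hm).trans ?_
    have hmk : ∀ x : (PowerSeries k)ˣ, X ^ n ∣ (x : PowerSeries k) - 1 ↔
        Units.map (Ideal.Quotient.mk (Ideal.span {(X : PowerSeries k) ^ n})).toMonoidHom x = 1 := by
      intro x
      rw [Units.ext_iff, Units.coe_map, Units.val_one, RingHom.toMonoidHom_eq_coe, MonoidHom.coe_coe,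
        ← map_one (Ideal.Quotient.mk _), Ideal.Quotient.eq, Ideal.mem_span_singleton]
    rw [← dvd_neg, neg_sub, hmk, map_zpow, (hmk v).mp hv, one_zpow]
  obtain ⟨h, hh⟩ := hdiv
  refine ⟨h, mul_left_cancel₀ (pow_ne_zero m X_ne_zero) ?_⟩
  have e : X ^ m * d.D a h = d.D (a - m) (X ^ m * h) := by rw [D_X_pow_mul, sub_add_cancel]
  rw [e, ← hh, X_pow_mul_cc d a hm, D_apply, map_sub, map_one, mul_sub, mul_one]
  have e2 : ((d.U ^ (a - m) : (PowerSeries k)ˣ) : PowerSeries k) *
      d.sg ((v ^ j : (PowerSeries k)ˣ) : PowerSeries k) = ((v ^ j : (PowerSeries k)ˣ) : PowerSeries k) := by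
    have := congrArg Units.val hinv'
    rwa [Units.val_mul, Units.coe_map] at this
  rw [e2]
  ring

/-- The indices of the basis classes. -/
def idx (p n : ℕ) (a : ℤ) : Finset ℕ :=
  (Finset.Icc 1 n).filter (fun m : ℕ => ¬ (p : ℤ) ∣ a - (m : ℤ))

theorem indep (a : ℤ) (coef : ℕ → k) (h : PowerSeries k)
    (hh : d.D a h = ∑ m ∈ (Finset.Icc 1 n).filter (fun m : ℕ => ¬ (p : ℤ) ∣ a - (m : ℤ)),
      coef m • d.cc a m) :
    ∀ m ∈ (Finset.Icc 1 n).filter (fun m : ℕ => ¬ (p : ℤ) ∣ a - (m : ℤ)), coef m = 0 := by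
  intro m hm
  obtain ⟨hm1, hm2⟩ := Finset.mem_filter.mp hm
  rw [Finset.mem_Icc] at hm1
  have := congrArg (coeff (n - m)) hh
  rw [d.coeff_D_of_lt a h (by omega), map_sum, Finset.sum_eq_single m] at this
  · rw [coeff_smul, d.coeff_cc a hm1.1 hm1.2 (by omega), if_pos (by omega), smul_eq_mul] at this
    have hne : ((a - m : ℤ) : k) ≠ 0 := fun e => hm2 ((CharP.intCast_eq_zero_iff k p _).mp e)
    exact (mul_eq_zero.mp this.symm).resolve_right (mul_ne_zero hne d.gam_ne_zero)
  · intro m' hm' hne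
    obtain ⟨hm1', -⟩ := Finset.mem_filter.mp hm'
    rw [Finset.mem_Icc] at hm1'
    rw [coeff_smul, d.coeff_cc a hm1'.1 hm1'.2 (by omega), if_neg (by omega), smul_zero]
  · exact fun h => absurd hm h

/-- Solving the triangular system. -/
def solve (a : ℤ) (x : PowerSeries k) : ℕ → k
  | q => (coeff (q + n) x - ∑ r : Fin q, solve a x r * d.kap a (q + n) r) /
      (((a + q : ℤ) : k) * d.gam)
termination_by q => q
decreasing_by exact r.isLt

theorem coeff_D_solve (a : ℤ) (x : PowerSeries k) (q : ℕ) (hq : ((a + q : ℤ) : k) ≠ 0) :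
    coeff (q + n) (d.D a (PowerSeries.mk (d.solve a x))) = coeff (q + n) x := by
  have hn := d.npos
  rw [d.coeff_D, ← Finset.sum_subset (s₁ := Finset.range (q + 1))
    (Finset.range_subset_range.mpr (by omega))]
  · rw [Finset.sum_range_succ, d.kap_eq a (N := q + n) (r := q) (by omega), if_pos rfl]
    simp only [coeff_mk]
    rw [← Fin.sum_univ_eq_sum_range (fun r => d.solve a x r * d.kap a (q + n) r) q]
    conv_lhs => arg 2; rw [solve, div_mul_cancel₀ _ (mul_ne_zero hq d.gam_ne_zero)]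
    ring
  · intro r hr hr'
    rw [Finset.mem_range] at hr hr'
    rw [d.kap_eq a (by omega), if_neg (by omega), mul_zero]

/-- The norm kernel is spanned by the classes modulo the image of `D a`. -/
theorem exists_decomp (a : ℤ) (x : PowerSeries k) (hx : (d.D a ^ (p - 1)) x = 0) :
    ∃ (coef : ℕ → k) (h : PowerSeries k),
      x = (∑ m ∈ (Finset.Icc 1 n).filter (fun m : ℕ => ¬ (p : ℤ) ∣ a - (m : ℤ)),
        coef m • d.cc a m) + d.D a h := by
  have hn := d.npos
  have hp : p.Prime := Fact.out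
  let coef : ℕ → k := fun m => coeff (n - m) x / (((a - m : ℤ) : k) * d.gam)
  let S := (Finset.Icc 1 n).filter (fun m : ℕ => ¬ (p : ℤ) ∣ a - (m : ℤ))
  let x' := x - ∑ m ∈ S, coef m • d.cc a m
  let h := PowerSeries.mk (d.solve a x')
  refine ⟨coef, h, ?_⟩
  let y := x' - d.D a h
  suffices hy : y = 0 by
    have := sub_eq_zero.mp hy
    rw [← this]
    exact (add_sub_cancel _ _).symm
  have hcast : ∀ z : ℤ, ((z : k) = 0 ↔ (p : ℤ) ∣ z) := fun z => CharP.intCast_eq_zero_iff k p z
  have hsupp : ∀ s : ℕ, coeff s y ≠ 0 → (p : ℤ) ∣ a + s - n := by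
    intro s hs
    by_contra hdvd
    apply hs
    rcases lt_or_ge s n with hsn | hsn
    · show coeff s (x' - d.D a h) = 0
      rw [map_sub, d.coeff_D_of_lt a h hsn, sub_zero]
      show coeff s (x - ∑ m ∈ S, coef m • d.cc a m) = 0
      have hmem : n - s ∈ S := Finset.mem_filter.mpr ⟨Finset.mem_Icc.mpr ⟨by omega, by omega⟩,
        by rwa [Nat.cast_sub hsn.le, ← sub_add, sub_add_eq_add_sub]⟩
      rw [map_sub, map_sum, Finset.sum_eq_single (n - s)]
      · rw [coeff_smul, d.coeff_cc a (by omega) (by omega) hsn, if_pos (by omega), smul_eq_mul]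
        have hne : ((a - (n - s : ℕ) : ℤ) : k) * d.gam ≠ 0 :=
          mul_ne_zero (fun e => (Finset.mem_filter.mp hmem).2 ((hcast _).mp e)) d.gam_ne_zero
        show coeff s x - coeff (n - (n - s)) x / _ * _ = 0
        rw [Nat.sub_sub_self hsn.le, div_mul_cancel₀ _ hne, sub_self]
      · intro m hm hne
        obtain ⟨hm', -⟩ := Finset.mem_filter.mp hm
        rw [Finset.mem_Icc] at hm'
        rw [coeff_smul, d.coeff_cc a hm'.1 hm'.2 hsn, if_neg (by omega), smul_zero]
      · exact fun h => absurd hmem h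
    · obtain ⟨q, rfl⟩ := Nat.exists_eq_add_of_le' hsn
      show coeff (q + n) (x' - d.D a h) = 0
      rw [map_sub, d.coeff_D_solve a x' q, sub_self]
      intro e
      apply hdvd
      rw [hcast] at e
      convert e using 1
      push_cast
      ring
  have hyN : (d.D a ^ (p - 1)) y = 0 := by
    have h1 : (d.D a ^ (p - 1)) (d.D a h) = 0 := by
      rw [← Module.End.mul_apply, ← pow_succ, Nat.sub_add_cancel hp.one_lt.le, D_pow_p,
        LinearMap.zero_apply]
    show (d.D a ^ (p - 1)) (x - (∑ m ∈ S, coef m • d.cc a m) - d.D a h) = 0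
    rw [map_sub, map_sub, hx, h1, map_sum, Finset.sum_eq_zero]
    · simp
    · intro m hm
      rw [map_smul, d.norm_cc a (Finset.mem_Icc.mp (Finset.mem_filter.mp hm).1).2, smul_zero]
  by_contra hy
  classical
  have hex : ∃ s, coeff s y ≠ 0 := by
    by_contra hall
    simp only [not_exists, not_not] at hall
    exact hy (PowerSeries.ext fun s => by rw [hall, map_zero])
  let s := Nat.find hex
  have hs : coeff s y ≠ 0 := Nat.find_spec hex
  have hmin : ∀ r < s, coeff r y = 0 := fun r hr => not_not.mp (Nat.find_min hex hr)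
  have hlead := (d.coeff_D_pow_lead a y s hmin (p - 1)).2
  rw [hyN, map_zero, eq_comm, mul_eq_zero, Finset.prod_eq_zero_iff] at hlead
  rcases hlead with ⟨l, hl, hl'⟩ | hlead
  · rw [mul_eq_zero, or_iff_left d.gam_ne_zero, hcast] at hl'
    have h2 : (p : ℤ) ∣ ((l + 1 : ℕ) : ℤ) * (n : ℤ) := by
      have e : ((l + 1 : ℕ) : ℤ) * (n : ℤ) =
          (a + s + l * n) - (a + s - n) := by push_cast; ring
      rw [e]
      exact Int.dvd_sub hl' (hsupp s hs)
    rw [← Nat.cast_mul, Int.natCast_dvd_natCast, hp.dvd_mul] at h2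
    rcases h2 with h2 | h2
    · rw [Finset.mem_range] at hl
      have := Nat.le_of_dvd (Nat.succ_pos l) h2
      omega
    · exact d.ndvd h2
  · exact hs hlead

end Datum

/-- Counting integers in an interval divisible by `p`. -/
theorem card_filter_dvd (p : ℕ) (hp : 0 < p) (a : ℤ) (n : ℕ) :
    (((Finset.Icc 1 n).filter (fun m : ℕ => (p : ℤ) ∣ a - (m : ℤ))).card : ℤ) =
      (a - 1) / (p : ℤ) - (a - 1 - n) / (p : ℤ) := by
  have hp' : (0 : ℤ) < p := by exact_mod_cast hp
  have step : ∀ x : ℤ, x / (p : ℤ) - (x - 1) / (p : ℤ) = if (p : ℤ) ∣ x then 1 else 0 := by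
    intro x
    split_ifs with h
    · obtain ⟨j, rfl⟩ := h
      rw [Int.mul_ediv_cancel_left _ hp'.ne',
        (Int.ediv_eq_iff_of_pos hp').mpr (⟨by linarith [hp'], by linarith [hp']⟩ :
          (j - 1) * (p : ℤ) ≤ (p : ℤ) * j - 1 ∧ (p : ℤ) * j - 1 < (j - 1) * (p : ℤ) + p)]
      ring
    · have h1 := Int.mul_ediv_add_emod x (p : ℤ)
      have h2 := Int.emod_nonneg x hp'.ne'
      have h3 := Int.emod_lt_of_pos x hp'
      have h4 : x % (p : ℤ) ≠ 0 := fun e => h (Int.dvd_of_emod_eq_zero e)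
      rw [(Int.ediv_eq_iff_of_pos hp').mpr (⟨by nlinarith [h4.symm.lt_of_le h2], by nlinarith⟩ :
        x / (p : ℤ) * (p : ℤ) ≤ x - 1 ∧ x - 1 < x / (p : ℤ) * (p : ℤ) + p), sub_self]
  induction n with
  | zero => simp
  | succ n ih =>
    rw [← Finset.insert_Icc_right_eq_Icc_add_one (Nat.le_add_left 1 n), Finset.filter_insert]
    have e := step (a - ((n + 1 : ℕ) : ℤ))
    push_cast at e ⊢
    rw [show a - 1 - ((n : ℤ) + 1) = a - ((n : ℤ) + 1) - 1 by ring]
    rw [show a - 1 - (n : ℤ) = a - ((n : ℤ) + 1) by ring] at ih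
    split_ifs with h
    · rw [Finset.card_insert_of_notMem (by simp), Nat.cast_succ, ih]
      rw [if_pos (by exact_mod_cast h)] at e
      linarith
    · rw [ih]
      rw [if_neg (by exact_mod_cast h)] at e
      linarith

end Groth.Agent.ASLocal
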