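import Groth.Agent.ASLocal.Basic

/-!
# First cohomology of the local `ℤ/p`-modules
-/

set_option autoImplicit false
set_option linter.unusedSectionVars false
universe u

open PowerSeries groupCohomology

noncomputable section

namespace Groth.Agent.ASLocal

variable {k : Type u} [Field k] {p n : ℕ} {u : PowerSeries k} [CharP k p] [Fact p.Prime]

/-- A representation of a cyclic group of order `p` on power series acting by `T a`. -/
structure Action (d : Datum p n u) (a : ℤ) {G : Type u} [Group G] (g : G)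
    (ρ : Representation k G (PowerSeries k)) : Prop where
  card : Nat.card G = p
  gen : ∀ x : G, x ∈ Subgroup.zpowers g
  act : ρ g = d.T a

variable {d : Datum p n u} {a : ℤ} {G : Type u} [Group G] {g : G}
  {ρ : Representation k G (PowerSeries k)}

namespace Action

variable (A : Action d a g ρ)
include A

theorem orderOf_eq : orderOf g = p :=
  (orderOf_eq_card_of_forall_mem_zpowers A.gen).trans A.card

theorem exists_pow (x : G) : ∃ l : ℕ, g ^ l = x := by
  have : Finite G := Nat.finite_of_card_ne_zero (A.card ▸ (Fact.out : p.Prime).pos.ne')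
  exact mem_powers_iff_mem_zpowers.mpr (A.gen x)

theorem rho_pow (l : ℕ) : ρ (g ^ l) = d.T a ^ l := by rw [map_pow, A.act]

/-- Cocycles agreeing at the generator are equal. -/
theorem cocycle_ext (f f' : cocycles₁ (Rep.of ρ)) (h : f g = f' g) : f = f' := by
  refine Subtype.ext (funext fun x => ?_)
  obtain ⟨l, rfl⟩ := A.exists_pow x
  induction l with
  | zero =>
    show f (g ^ 0) = f' (g ^ 0)
    rw [pow_zero, cocycles₁_map_one, cocycles₁_map_one]
  | succ l ih =>
    show f (g ^ (l + 1)) = f' (g ^ (l + 1))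
    rw [pow_succ', (mem_cocycles₁_iff f).1 f.2, (mem_cocycles₁_iff f').1 f'.2, h]
    exact congrArg (fun y => (Rep.of ρ).ρ g y + f' g) ih

theorem cocycle_norm (f : cocycles₁ (Rep.of ρ)) : (d.D a ^ (p - 1)) (f g) = 0 := by
  have key : ∀ l : ℕ, f (g ^ l) = (∑ q ∈ Finset.range l, d.T a ^ q) (f g) := by
    intro l
    induction l with
    | zero => rw [pow_zero, cocycles₁_map_one]; simp
    | succ l ih =>
      rw [pow_succ, (mem_cocycles₁_iff f).1 f.2, ih, Finset.sum_range_succ, LinearMap.add_apply]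
      show ρ (g ^ l) (f g) + _ = _
      rw [A.rho_pow, add_comm]
  rw [← d.sum_T_pow, ← key, ← A.orderOf_eq, pow_orderOf_eq_one, cocycles₁_map_one]

theorem exists_cocycle (x : PowerSeries k) (hx : (d.D a ^ (p - 1)) x = 0) :
    ∃ f : cocycles₁ (Rep.of ρ), f g = x := by
  let F : ℕ → PowerSeries k := fun l => (∑ q ∈ Finset.range l, d.T a ^ q) x
  have hadd : ∀ l l', F (l + l') = (d.T a ^ l) (F l') + F l := by
    intro l l'
    show (∑ q ∈ Finset.range (l + l'), d.T a ^ q) x = _
    rw [Finset.sum_range_add, LinearMap.add_apply, add_comm]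
    simp only [F, LinearMap.sum_apply, map_sum, pow_add, Module.End.mul_apply]
  have hp : F p = 0 := by
    show (∑ q ∈ Finset.range p, d.T a ^ q) x = 0
    rw [d.sum_T_pow, hx]
  have hper : ∀ l j, F (l + j * p) = F l := by
    intro l j
    induction j with
    | zero => simp
    | succ j ih => rw [add_mul, one_mul, ← add_assoc, hadd, hp, map_zero, zero_add, ih]
  choose e he using A.exists_pow
  have hwell : ∀ l, F (e (g ^ l)) = F l := by
    intro l
    have h := pow_eq_pow_iff_modEq.mp (he (g ^ l))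
    rw [A.orderOf_eq] at h
    conv_lhs => rw [← Nat.mod_add_div (e (g ^ l)) p, mul_comm, hper]
    conv_rhs => rw [← Nat.mod_add_div l p, mul_comm, hper]
    rw [h]
  refine ⟨⟨fun y => F (e y), (mem_cocycles₁_iff (A := Rep.of ρ) _).2 fun y z => ?_⟩, ?_⟩
  · show F (e (y * z)) = ρ y (F (e z)) + F (e y)
    have : y * z = g ^ (e y + e z) := by rw [pow_add, he, he]
    rw [this, hwell, hadd]
    congr 2
    rw [← A.rho_pow, he]
  · show F (e g) = x
    have := hwell 1
    rw [pow_one] at this
    rw [this]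
    simp [F]

/-- The cocycle with the given value at the generator. -/
def coc (x : PowerSeries k) (hx : (d.D a ^ (p - 1)) x = 0) : cocycles₁ (Rep.of ρ) :=
  (A.exists_cocycle x hx).choose

theorem coc_apply (x : PowerSeries k) (hx : (d.D a ^ (p - 1)) x = 0) : A.coc x hx g = x :=
  (A.exists_cocycle x hx).choose_spec

theorem H1π_eq_zero (f : cocycles₁ (Rep.of ρ)) :
    H1π (Rep.of ρ) f = 0 ↔ ∃ h, d.D a h = f g := by
  rw [H1π_eq_zero_iff]
  constructor
  · rintro ⟨h, hh⟩
    refine ⟨h, ?_⟩
    rw [← hh, Datum.D, LinearMap.sub_apply, Module.End.one_apply, ← A.act]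
    rfl
  · rintro ⟨h, hh⟩
    refine ⟨h, ?_⟩
    have e : (⟨(d₀₁ (Rep.of ρ)).hom h, d₀₁_apply_mem_cocycles₁ _⟩ : cocycles₁ (Rep.of ρ)) = f := by
      refine A.cocycle_ext _ _ ?_
      rw [← hh, Datum.D, LinearMap.sub_apply, Module.End.one_apply, ← A.act]
      rfl
    exact congrArg Subtype.val e

theorem H1π_eq (f f' : cocycles₁ (Rep.of ρ)) :
    H1π (Rep.of ρ) f = H1π (Rep.of ρ) f' ↔ ∃ h, d.D a h = f g - f' g := by
  rw [← sub_eq_zero, ← map_sub, A.H1π_eq_zero]
  rfl

/-- The basis indices. -/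
abbrev S (_A : Action d a g ρ) : Finset ℕ :=
  (Finset.Icc 1 n).filter (fun m : ℕ => ¬ (p : ℤ) ∣ a - (m : ℤ))

/-- The class of `cc a m`, zero for indices out of range. -/
def cls (m : ℕ) : H1 (Rep.of ρ) :=
  if hm : m ≤ n then H1π (Rep.of ρ) (A.coc (d.cc a m) (d.norm_cc a hm)) else 0

theorem sum_smul_cls (T : Finset ℕ) (hT : ∀ m ∈ T, m ≤ n) (coef : ℕ → k) :
    ∃ f : cocycles₁ (Rep.of ρ), H1π (Rep.of ρ) f = ∑ m ∈ T, coef m • A.cls m ∧
      f g = ∑ m ∈ T, coef m • d.cc a m := by
  classical
  induction T using Finset.induction_on with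
  | empty => exact ⟨0, by simp, rfl⟩
  | insert m T hm ih =>
    obtain ⟨f, h1, h2⟩ := ih fun x hx => hT x (Finset.mem_insert_of_mem hx)
    have hmn := hT m (Finset.mem_insert_self _ _)
    refine ⟨coef m • A.coc (d.cc a m) (d.norm_cc a hmn) + f, ?_, ?_⟩
    · rw [Finset.sum_insert hm, map_add, map_smul, h1, cls, dif_pos hmn]
    · rw [Finset.sum_insert hm, ← h2]
      show coef m • A.coc (d.cc a m) (d.norm_cc a hmn) g + f g = _
      rw [A.coc_apply]

theorem linearIndependent : LinearIndependent k (fun m : A.S => A.cls m) := by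
  classical
  rw [Fintype.linearIndependent_iff]
  intro c hc m
  let coef : ℕ → k := fun i => if hi : i ∈ A.S then c ⟨i, hi⟩ else 0
  have hle : ∀ i ∈ A.S, i ≤ n := fun i hi => (Finset.mem_Icc.mp (Finset.mem_filter.mp hi).1).2
  obtain ⟨f, h1, h2⟩ := A.sum_smul_cls A.S hle coef
  have hsum : ∑ i ∈ A.S, coef i • A.cls i = 0 := by
    rw [← Finset.sum_attach]
    exact (Finset.sum_congr rfl fun i _ => by simp only [coef, dif_pos i.2]).trans hc
  rw [hsum, A.H1π_eq_zero] at h1
  obtain ⟨h, hh⟩ := h1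
  have := d.indep a coef h (hh.trans h2) m.1 m.2
  simpa only [coef, dif_pos m.2] using this

theorem mem_span (x : H1 (Rep.of ρ)) :
    x ∈ Submodule.span k (Set.range fun m : A.S => A.cls m) := by
  induction x using H1_induction_on with
  | h f =>
    obtain ⟨coef, h, hf⟩ := d.exists_decomp a (f g) (A.cocycle_norm f)
    obtain ⟨f', h1, h2⟩ := A.sum_smul_cls A.S
      (fun i hi => (Finset.mem_Icc.mp (Finset.mem_filter.mp hi).1).2) coef
    have : H1π (Rep.of ρ) f = H1π (Rep.of ρ) f' :=
      (A.H1π_eq f f').mpr ⟨h, by rw [h2, hf]; exact (add_sub_cancel_left _ _).symm⟩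
    rw [this, h1]
    exact Submodule.sum_mem _ fun i hi => Submodule.smul_mem _ _
      (Submodule.subset_span ⟨⟨i, hi⟩, rfl⟩)

theorem finite_and_finrank : Module.Finite k (H1 (Rep.of ρ)) ∧
    (Module.finrank k (H1 (Rep.of ρ)) : ℤ) = n - (a - 1) / (p : ℤ) + (a - 1 - n) / (p : ℤ) := by
  have htop : ⊤ ≤ Submodule.span k (Set.range fun m : A.S => A.cls m) := fun x _ => A.mem_span x
  let b := Module.Basis.mk A.linearIndependent htop
  refine ⟨Module.Finite.of_basis b, ?_⟩
  rw [Module.finrank_eq_card_basis b, Fintype.card_coe]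
  have h1 := card_filter_dvd p (Fact.out : p.Prime).pos a n
  have h2 := Finset.card_filter_add_card_filter_not (s := Finset.Icc 1 n)
    (fun m : ℕ => (p : ℤ) ∣ a - (m : ℤ))
  rw [Nat.card_Icc] at h2
  simp only [S]
  omega

end Action

end Groth.Agent.ASLocal
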