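import Groth.Agent.ASLocal.Cohom

/-!
# The derivative on first cohomology
-/

set_option autoImplicit false
set_option linter.unusedSectionVars false
universe u

open PowerSeries groupCohomology

noncomputable section

namespace Groth.Agent.ASLocal

variable {k : Type u} [Field k] {p n : ℕ} {u : PowerSeries k} [CharP k p] [Fact p.Prime]

/-- The derivative of the classes. -/
theorem derivative_cc (d : Datum p n u) {m : ℕ} (hm : m ≤ n) :
    X ^ (m + 1) * derivative k (d.cc 0 m) =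
      -(m : PowerSeries k) * (((d.U ^ (((n : ℤ) + 1) - ((m + 1 : ℕ) : ℤ)) : (PowerSeries k)ˣ) : PowerSeries k) - 1) := by
  obtain ⟨n', hn'⟩ := Nat.exists_eq_succ_of_ne_zero d.npos.ne'
  have h := d.X_pow_mul_cc 0 hm
  set V := ((d.U ^ ((0 : ℤ) - m) : (PowerSeries k)ˣ) : PowerSeries k) with hV
  have hW : ((d.U ^ (((n : ℤ) + 1) - ((m + 1 : ℕ) : ℤ)) : (PowerSeries k)ˣ) : PowerSeries k) = u ^ n * V := by
    rw [hV, show u ^ n = ((d.U ^ n : (PowerSeries k)ˣ) : PowerSeries k) by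
        rw [Units.val_pow_eq_pow_val, d.coe_U], ← Units.val_mul, ← zpow_natCast, ← zpow_add]
    congr 2
    push_cast
    ring
  have hVm : V * u ^ m = 1 := by
    rw [hV, show u ^ m = ((d.U ^ m : (PowerSeries k)ˣ) : PowerSeries k) by
        rw [Units.val_pow_eq_pow_val, d.coe_U], ← Units.val_mul, ← zpow_natCast, ← zpow_add]
    simp
  have d1 := congrArg (derivative k) d.eqn
  have d2 := congrArg (derivative k) hVm
  have d3 := congrArg (derivative k) h
  simp only [Derivation.leibniz, Derivation.map_one_eq_zero, map_add, map_sub, derivative_pow,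
    derivative_X, mul_one, smul_eq_mul, add_zero, zero_add, sub_zero] at d1 d2 d3
  have hne : (n : PowerSeries k) ≠ 0 := by
    rw [← map_natCast (C : k →+* PowerSeries k)]
    exact fun e => d.n_ne_zero (C_injective (e.trans (map_zero _).symm))
  have eqn := d.eqn
  rw [hW]
  subst hn'
  simp only [Nat.succ_eq_add_one, Nat.add_sub_cancel] at d1 eqn hne ⊢
  rw [pow_succ u n', pow_succ (X : PowerSeries k) n'] at eqn d1
  rw [pow_succ u n']
  generalize derivative k u = u' at d1 d2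
  generalize derivative k V = V' at d2 d3
  generalize derivative k (d.cc 0 m) = c' at d3 ⊢
  generalize d.cc 0 m = c at d3 h
  have hu' : u' = -(u * u * X ^ n' * u ^ n') := by
    have e : (((n' + 1 : ℕ) : PowerSeries k)) * (u' + u * u * X ^ n' * u ^ n') = 0 := by
      linear_combination u * d1 - (((n' + 1 : ℕ) : PowerSeries k) * u') * eqn
    rcases mul_eq_zero.mp e with e | e
    · exact absurd e hne
    · linear_combination e
  rcases m with _ | m'
  · simp only [pow_zero, one_mul, mul_one, Nat.cast_zero, zero_mul, mul_zero, zero_add, neg_zero,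
      sub_zero, pow_one] at d2 d3 ⊢
    linear_combination (X : PowerSeries k) * d3 + (X : PowerSeries k) * d2
  · simp only [Nat.add_sub_cancel] at d2 d3
    rw [pow_succ u m'] at hVm d2
    have hV' : V' = ((m' + 1 : ℕ) : PowerSeries k) * V * u * u ^ n' * X ^ n' := by
      linear_combination V * d2 - V' * hVm - ((m' + 1 : ℕ) : PowerSeries k) * V * V * u ^ m' * hu' +
        ((m' + 1 : ℕ) : PowerSeries k) * V * u * u ^ n' * X ^ n' * hVm
    linear_combination (X : PowerSeries k) * d3 - ((m' + 1 : ℕ) : PowerSeries k) * h + X * hV' +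
      ((m' + 1 : ℕ) : PowerSeries k) * V * eqn

variable {d : Datum p n u} {G : Type u} [Group G] {g : G}
  {ρ₀ ρ₁ : Representation k G (PowerSeries k)}

theorem map_H1π {b : ℤ} (B : Action d b g ρ₁) (φ : Rep.of ρ₀ ⟶ Rep.of ρ₁)
    (f : cocycles₁ (Rep.of ρ₀)) (f' : cocycles₁ (Rep.of ρ₁)) (h : φ.hom (f g) = f' g) :
    ((groupCohomology.functor k G 1).map φ).hom (H1π (Rep.of ρ₀) f) = H1π (Rep.of ρ₁) f' := by
  have e := CategoryTheory.ConcreteCategory.congr_hom
    (H1π_comp_map (A := Rep.of ρ₀) (B := Rep.of ρ₁) (MonoidHom.id G) φ) f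
  refine e.trans ?_
  exact congrArg (H1π (Rep.of ρ₁)).hom (B.cocycle_ext _ f' h)

theorem finite_and_finrank_range_derivative (A₀ : Action d 0 g ρ₀) (A₁ : Action d ((n : ℤ) + 1) g ρ₁)
    (φ : Rep.of ρ₀ ⟶ Rep.of ρ₁) (hφ : ∀ h : PowerSeries k, φ.hom h = derivative k h) :
    Module.Finite k (LinearMap.range ((groupCohomology.functor k G 1).map φ).hom) ∧
      (Module.finrank k (LinearMap.range ((groupCohomology.functor k G 1).map φ).hom) : ℤ) =
        ((n + 1) * (p - 1) : ℤ) / p - 1 - (n - 1 : ℤ) / p := by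
  classical
  have hp : p.Prime := Fact.out
  let L : H1 (Rep.of ρ₀) →ₗ[k] H1 (Rep.of ρ₁) := (groupCohomology.map (MonoidHom.id G) φ 1).hom
  show Module.Finite k (LinearMap.range L) ∧ (Module.finrank k (LinearMap.range L) : ℤ) = _
  have hcls : ∀ m ∈ A₀.S, L (A₀.cls m) =
      (-(m : k)) • A₁.cls (m + 1) := by
    intro m hm
    obtain ⟨hmI, hmd⟩ := Finset.mem_filter.mp hm
    rw [Finset.mem_Icc] at hmI
    rw [Action.cls, dif_pos hmI.2]
    rcases Nat.lt_or_ge m n with hlt | hge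
    · rw [Action.cls, dif_pos (show m + 1 ≤ n by omega), ← map_smul]
      refine map_H1π A₁ φ _ _ ?_
      show φ.hom (A₀.coc (d.cc 0 m) _ g) = (-(m : k)) • A₁.coc (d.cc _ (m + 1)) _ g
      rw [A₀.coc_apply, A₁.coc_apply, hφ]
      refine mul_left_cancel₀ (pow_ne_zero (m + 1) X_ne_zero) ?_
      rw [derivative_cc d hmI.2, mul_smul_comm, d.X_pow_mul_cc _ (show m + 1 ≤ n by omega),
        smul_eq_C_mul, map_neg, map_natCast]
    · rw [Action.cls, dif_neg (show ¬ m + 1 ≤ n by omega), smul_zero,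
        ← map_zero (H1π (Rep.of ρ₁)).hom]
      refine map_H1π A₁ φ _ _ ?_
      show φ.hom (A₀.coc (d.cc 0 m) _ g) = (0 : PowerSeries k)
      rw [A₀.coc_apply, hφ]
      refine mul_left_cancel₀ (pow_ne_zero (m + 1) X_ne_zero) ?_
      rw [derivative_cc d hmI.2, mul_zero]
      have : ((n : ℤ) + 1 - ((m + 1 : ℕ) : ℤ)) = 0 := by omega
      rw [this, zpow_zero, Units.val_one, sub_self, mul_zero]
  have hvan : ∀ m, m ≤ n → (p : ℤ) ∣ (n : ℤ) + 1 - (m : ℤ) → A₁.cls m = 0 := by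
    intro m hm hdvd
    rw [Action.cls, dif_pos hm, A₁.H1π_eq_zero, A₁.coc_apply]
    exact d.exists_D_eq_cc _ hm hdvd
  let T := (Finset.Icc 1 (n - 1)).filter
    (fun m : ℕ => ¬ (p : ℤ) ∣ (0 : ℤ) - (m : ℤ) ∧ ¬ (p : ℤ) ∣ (n : ℤ) - (m : ℤ))
  have hT : ∀ m : T, m.1 ∈ A₀.S ∧ m.1 + 1 ∈ A₁.S := by
    rintro ⟨m, hm⟩
    obtain ⟨hmI, h1, h2⟩ := Finset.mem_filter.mp hm
    rw [Finset.mem_Icc] at hmI
    dsimp only
    refine ⟨Finset.mem_filter.mpr ⟨Finset.mem_Icc.mpr ⟨by omega, by omega⟩, h1⟩,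
      Finset.mem_filter.mpr ⟨Finset.mem_Icc.mpr ⟨by omega, by omega⟩, ?_⟩⟩
    intro h
    apply h2
    convert h using 1
    push_cast
    ring
  have hli : LinearIndependent k (fun m : T => A₁.cls (m.1 + 1)) :=
    (A₁.linearIndependent).comp (fun m : T => (⟨m.1 + 1, (hT m).2⟩ : A₁.S))
      (fun a b h => Subtype.ext (by simpa using congrArg Subtype.val h))
  have hm0 : ∀ m ∈ A₀.S, (m : k) ≠ 0 := by
    intro m hm e
    refine (Finset.mem_filter.mp hm).2 ?_
    rw [zero_sub, dvd_neg]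
    exact_mod_cast (CharP.cast_eq_zero_iff k p m).mp e
  have hrange : LinearMap.range L =
      Submodule.span k (Set.range fun m : T => A₁.cls (m.1 + 1)) := by
    apply le_antisymm
    · rintro _ ⟨x, rfl⟩
      have hx := Submodule.mem_map_of_mem (f := L) (A₀.mem_span x)
      revert hx
      refine fun hx => (show Submodule.map L _ ≤ _ from ?_) hx
      rw [Submodule.map_span, Submodule.span_le]
      rintro _ ⟨_, ⟨⟨m, hm⟩, rfl⟩, rfl⟩
      rw [SetLike.mem_coe, hcls m hm]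
      refine Submodule.smul_mem _ _ ?_
      obtain ⟨hmI, hmd⟩ := Finset.mem_filter.mp hm
      rw [Finset.mem_Icc] at hmI
      by_cases hn' : m + 1 ≤ n
      · by_cases h2 : (p : ℤ) ∣ (n : ℤ) - (m : ℤ)
        · rw [hvan (m + 1) hn' (by push_cast; rwa [add_sub_add_right_eq_sub])]
          exact zero_mem _
        · exact Submodule.subset_span ⟨⟨m, Finset.mem_filter.mpr
            ⟨Finset.mem_Icc.mpr ⟨by omega, by omega⟩, hmd, h2⟩⟩, rfl⟩
      · rw [Action.cls, dif_neg hn']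
        exact zero_mem _
    · rw [Submodule.span_le]
      rintro _ ⟨m, rfl⟩
      refine ⟨(-(m.1 : k))⁻¹ • A₀.cls m.1, ?_⟩
      show L ((-(m.1 : k))⁻¹ • A₀.cls m.1) = A₁.cls (m.1 + 1)
      rw [map_smul, hcls m.1 (hT m).1, inv_smul_smul₀ (neg_ne_zero.mpr (hm0 _ (hT m).1))]
  rw [hrange]
  refine ⟨Module.Finite.span_of_finite k (Set.finite_range _), ?_⟩
  rw [finrank_span_eq_card hli, Fintype.card_coe]
  have c0 := card_filter_dvd p hp.pos 0 (n - 1)
  have c1 := card_filter_dvd p hp.pos (n : ℤ) (n - 1)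
  have hdisj : Disjoint ((Finset.Icc 1 (n - 1)).filter (fun m : ℕ => (p : ℤ) ∣ (0 : ℤ) - (m : ℤ)))
      ((Finset.Icc 1 (n - 1)).filter (fun m : ℕ => (p : ℤ) ∣ (n : ℤ) - (m : ℤ))) := by
    rw [Finset.disjoint_filter]
    intro m _ h1 h2
    refine d.ndvd ?_
    have := Int.dvd_sub h2 h1
    rw [show (n : ℤ) - m - (0 - m) = n by ring] at this
    exact_mod_cast this
  have hcard := Finset.card_filter_add_card_filter_not (s := Finset.Icc 1 (n - 1))
    (fun m : ℕ => (p : ℤ) ∣ (0 : ℤ) - (m : ℤ) ∨ (p : ℤ) ∣ (n : ℤ) - (m : ℤ))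
  rw [Finset.filter_or, Finset.card_union_of_disjoint hdisj, Nat.card_Icc] at hcard
  simp only [not_or] at hcard
  have hn1 : (((n - 1 : ℕ) : ℤ)) = (n : ℤ) - 1 := by have := d.npos; omega
  rw [hn1] at c0 c1
  have hp' : (0 : ℤ) < p := by exact_mod_cast hp.pos
  -- the floor identities
  have h1 := Int.mul_ediv_add_emod ((n : ℤ) - 1) (p : ℤ)
  have h2 := Int.emod_nonneg ((n : ℤ) - 1) hp'.ne'
  have h3 := Int.emod_lt_of_pos ((n : ℤ) - 1) hp'
  have h4 : ((n : ℤ) - 1) % (p : ℤ) ≠ (p : ℤ) - 1 := by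
    intro e
    refine d.ndvd (Int.natCast_dvd_natCast.mp ⟨((n : ℤ) - 1) / (p : ℤ) + 1, ?_⟩)
    rw [mul_add, mul_one]
    omega
  generalize hq : ((n : ℤ) - 1) / (p : ℤ) = q at h1
  generalize ((n : ℤ) - 1) % (p : ℤ) = r at h1 h2 h3 h4
  have h5 : r + 2 ≤ p := by omega
  have e1 : ((0 : ℤ) - 1) / (p : ℤ) = -1 :=
    (Int.ediv_eq_iff_of_pos hp').mpr ⟨by linarith, by linarith⟩
  have e2 : ((0 : ℤ) - 1 - ((n : ℤ) - 1)) / (p : ℤ) = -q - 1 :=
    (Int.ediv_eq_iff_of_pos hp').mpr ⟨by nlinarith, by nlinarith⟩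
  have e3 : ((n : ℤ) - 1 - ((n : ℤ) - 1)) / (p : ℤ) = 0 := by simp
  have e4 : ((n + 1) * (p - 1) : ℤ) / (p : ℤ) = n + 1 - q - 1 :=
    (Int.ediv_eq_iff_of_pos hp').mpr ⟨by nlinarith, by nlinarith⟩
  rw [e1, e2] at c0
  rw [hq, e3] at c1
  rw [e4]
  simp only [T]
  omega

end Groth.Agent.ASLocal
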